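import Mathlib

/-!
A criterion for the set of element orders, and the element orders of `A₁₀`.
-/

set_option autoImplicit false

namespace Cfsg.Lib.SpecA10

open Equiv

def maxOrders : List ℕ := [8, 9, 10, 12, 15, 21]

theorem range_orderOf {G : Type*} [Group G] (L : List ℕ) (h1 : ∀ g : G, ∃ d ∈ L, g ^ d = 1)
    (h2 : ∀ d ∈ L, ∃ g : G, orderOf g = d) (hpos : ∀ d ∈ L, d ≠ 0) :
    Set.range (orderOf : G → ℕ) = {n | ∃ d ∈ L, n ∣ d} := by
  ext n
  constructor
  · rintro ⟨g, rfl⟩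
    obtain ⟨d, hd, hg⟩ := h1 g
    exact ⟨d, hd, orderOf_dvd_of_pow_eq_one hg⟩
  · rintro ⟨d, hd, hn⟩
    obtain ⟨g, hg⟩ := h2 d hd
    refine ⟨g ^ (d / n), ?_⟩
    have hdn : 0 < d / n := Nat.div_pos (Nat.le_of_dvd (Nat.pos_of_ne_zero (hpos d hd)) hn)
      (Nat.pos_of_dvd_of_pos hn (Nat.pos_of_ne_zero (hpos d hd)))
    have hdd : d / n ∣ orderOf g := by rw [hg]; exact Nat.div_dvd_of_dvd hn
    rw [orderOf_pow_of_dvd hdn.ne' hdd, hg, Nat.div_div_self hn (hpos d hd)]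

/-- non-increasing lists of numbers in `[2, m]` of sum at most `t` -/
def gen : ℕ → ℕ → ℕ → List (List ℕ)
  | 0, _, _ => [[]]
  | f + 1, m, t => [] :: ((List.range (min m t + 1)).filter (2 ≤ ·)).flatMap fun x => (gen f x (t - x)).map (x :: ·)

theorem mem_gen : ∀ (l : List ℕ) (f m t : ℕ), (∀ x ∈ l, 2 ≤ x ∧ x ≤ m) → l.Pairwise (fun a b => b ≤ a) →
    l.sum ≤ t → l.length ≤ f → l ∈ gen f m t
  | [], 0, _, _, _, _, _, _ => by simp [gen]
  | [], f + 1, _, _, _, _, _, _ => by simp [gen]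
  | a :: l, 0, _, _, _, _, _, h => by simp at h
  | a :: l, f + 1, m, t, h1, h2, h3, h4 => by
      rw [List.sum_cons] at h3
      rw [List.length_cons] at h4
      obtain ⟨ha, ham⟩ := h1 a List.mem_cons_self
      obtain ⟨h2a, h2b⟩ := List.pairwise_cons.1 h2
      refine List.mem_cons_of_mem _ (List.mem_flatMap.2 ⟨a, List.mem_filter.2
        ⟨List.mem_range.2 (by omega), by simpa using ha⟩, List.mem_map.2 ⟨l, ?_, rfl⟩⟩)
      exact mem_gen l f a (t - a) (fun x hx => ⟨(h1 x (List.mem_cons_of_mem _ hx)).1, h2a x hx⟩) h2b (by omega) (by omega)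

theorem gen_lcm : ∀ l ∈ gen 5 10 10, (l.sum + l.length) % 2 = 0 →
    ∃ d ∈ maxOrders, l.foldr Nat.lcm 1 ∣ d := by decide +kernel

theorem lcm_coe_list (l : List ℕ) : (l : Multiset ℕ).lcm = l.foldr Nat.lcm 1 := by
  induction l with
  | nil => simp
  | cons a l ih => rw [← Multiset.cons_coe, Multiset.lcm_cons, ih, List.foldr_cons]; rfl

theorem alt10_pow (g : alternatingGroup (Fin 10)) : ∃ d ∈ maxOrders, g ^ d = 1 := by
  set σ : Perm (Fin 10) := (g : Perm (Fin 10)) with hσ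
  have hsgn : Perm.sign σ = 1 := g.2
  rw [Perm.sign_of_cycleType] at hsgn
  have he : Even (σ.cycleType.sum + σ.cycleType.card) := by
    by_contra ho
    rw [(Nat.not_even_iff_odd.1 ho).neg_one_pow] at hsgn
    exact absurd hsgn (by decide)
  have hle := σ.support.card_le_univ
  rw [Fintype.card_fin, ← Perm.sum_cycleType] at hle
  set l := σ.cycleType.sort (fun a b => b ≤ a) with hl
  have hcoe : (l : Multiset ℕ) = σ.cycleType := σ.cycleType.sort_eq _
  rw [← hcoe] at he hle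
  rw [Multiset.sum_coe] at he hle
  rw [Multiset.coe_card] at he
  have hmem : ∀ x ∈ l, 2 ≤ x ∧ x ≤ 10 := fun x hx =>
    ⟨Perm.two_le_of_mem_cycleType (hcoe ▸ (Multiset.mem_coe.2 hx)), le_trans (List.le_sum_of_mem hx) hle⟩
  have hlen : l.length ≤ 5 := by
    have := List.card_nsmul_le_sum l 2 fun x hx => (hmem x hx).1
    simp at this
    omega
  obtain ⟨d, hd, hdvd⟩ := gen_lcm l (mem_gen l 5 10 10 hmem (Multiset.pairwise_sort _ _) hle hlen) (Nat.even_iff.1 he)
  refine ⟨d, hd, orderOf_dvd_iff_pow_eq_one.1 ?_⟩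
  rw [← Subgroup.orderOf_coe g, ← hσ, ← Perm.lcm_cycleType, ← hcoe, lcm_coe_list]
  exact hdvd

def cyc (l : List (Fin 10)) : Perm (Fin 10) := l.formPerm

theorem alt10_wit : ∀ d ∈ maxOrders, ∃ g : alternatingGroup (Fin 10), orderOf g = d := by
  intro d hd
  have key : ∀ σ : Perm (Fin 10), Perm.sign σ = 1 → 0 < d → (σ ^ d = 1 ∧ ∀ m, m < d → 0 < m → σ ^ m ≠ 1) →
      ∃ g : alternatingGroup (Fin 10), orderOf g = d := fun σ hs hd0 h =>
    ⟨⟨σ, hs⟩, by rw [← Subgroup.orderOf_coe]; exact (orderOf_eq_iff hd0).2 h⟩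
  rcases List.mem_cons.1 hd with rfl | hd
  · exact key (cyc [0, 1, 2, 3, 4, 5, 6, 7] * cyc [8, 9]) (by decide +kernel) (by norm_num) (by decide +kernel)
  rcases List.mem_cons.1 hd with rfl | hd
  · exact key (cyc [0, 1, 2, 3, 4, 5, 6, 7, 8]) (by decide +kernel) (by norm_num) (by decide +kernel)
  rcases List.mem_cons.1 hd with rfl | hd
  · exact key (cyc [0, 1, 2, 3, 4] * cyc [5, 6] * cyc [7, 8]) (by decide +kernel) (by norm_num) (by decide +kernel)
  rcases List.mem_cons.1 hd with rfl | hd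
  · exact key (cyc [0, 1, 2, 3] * cyc [4, 5, 6] * cyc [7, 8]) (by decide +kernel) (by norm_num) (by decide +kernel)
  rcases List.mem_cons.1 hd with rfl | hd
  · exact key (cyc [0, 1, 2, 3, 4] * cyc [5, 6, 7]) (by decide +kernel) (by norm_num) (by decide +kernel)
  rcases List.mem_singleton.1 hd with rfl
  exact key (cyc [0, 1, 2, 3, 4, 5, 6] * cyc [7, 8, 9]) (by decide +kernel) (by norm_num) (by decide +kernel)

theorem alt10_spectrum :
    Set.range (orderOf : alternatingGroup (Fin 10) → ℕ) = {n | ∃ d ∈ maxOrders, n ∣ d} :=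
  range_orderOf maxOrders alt10_pow alt10_wit (by decide)

end Cfsg.Lib.SpecA10
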