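import Cfsg.Agent.SpecA10.Extension

/-!
Elements of the extremal orders in `(V₇ × V₃) ⋊ 2.S₅`.
-/

set_option autoImplicit false

namespace Cfsg.Lib.SpecA10

open Matrix

noncomputable def hA : ↥H := ⟨uA, Subgroup.subset_closure (by simp)⟩
noncomputable def hB : ↥H := ⟨uB, Subgroup.subset_closure (by simp)⟩
noncomputable def hC : ↥H := ⟨uC, Subgroup.subset_closure (by simp)⟩

theorem pow_eq_iff (h : ↥H) (l : List ℕ) (hl : ((h : M4ˣ) : M4) = toM l) (n : ℕ) :
    (h ^ n = 1 ↔ toM (powL l n) = 1) := by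
  rw [toM_pow, ← hl, ← Units.val_pow_eq_pow_val, ← SubmonoidClass.coe_pow, Units.val_eq_one,
    OneMemClass.coe_eq_one]

theorem toM_injOn (a b : List ℕ) (ha : ∀ n, a.getD n 0 < 7) (hb : ∀ n, b.getD n 0 < 7) (h : toM a = toM b) :
    ∀ n, n < 16 → a.getD n 0 = b.getD n 0 := by
  intro n hn
  have := congrFun (congrFun h ⟨n / 4, by omega⟩) ⟨n % 4, by omega⟩
  simp only [toM, Matrix.of_apply, Nat.div_add_mod] at this
  have := (ZMod.natCast_eq_natCast_iff' _ _ 7).1 this
  rwa [Nat.mod_eq_of_lt (ha n), Nat.mod_eq_of_lt (hb n)] at this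

theorem order_of_code (h : ↥H) (l : List ℕ) (hl : ((h : M4ˣ) : M4) = toM l) (d : ℕ) (hd : 0 < d)
    (h1 : powL l d = oneL) (h2 : ∀ m, m < d → 0 < m → powL l m ≠ oneL) (hb : ∀ m, m < d → ∀ n, n < 16 → (powL l m).getD n 0 < 7)
    (hlen : ∀ m, m < d → (powL l m).length = 16) : orderOf h = d := by
  refine (orderOf_eq_iff hd).2 ⟨(pow_eq_iff h l hl d).2 (by rw [h1, toM_one]), fun m hm hm0 he => h2 m hm hm0 ?_⟩
  have hM := ((pow_eq_iff h l hl m).1 he).trans toM_one.symm
  have hlt : ∀ n, (powL l m).getD n 0 < 7 := fun n => by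
    by_cases hn : n < 16
    · exact hb m hm n hn
    · rw [List.getD_eq_default _ _ (by rw [hlen m hm]; omega)]; norm_num
  have hlt' : ∀ n, oneL.getD n 0 < 7 := fun n => by
    by_cases hn : n < 16
    · exact (by decide : ∀ n, n < 16 → oneL.getD n 0 < 7) n hn
    · rw [List.getD_eq_default _ _ (show oneL.length ≤ n by simp [oneL]; omega)]; norm_num
  refine List.ext_getElem (by rw [hlen m hm]; rfl) fun n hn hn' => ?_
  rw [← List.getD_eq_getElem _ 0 hn, ← List.getD_eq_getElem _ 0 hn']
  exact toM_injOn _ _ hlt hlt' hM n (by rwa [hlen m hm] at hn)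

theorem order_hB : orderOf hB = 3 :=
  order_of_code hB genB rfl 3 (by norm_num) (by decide +kernel) (by decide +kernel) (by decide +kernel) (by decide +kernel)

theorem order_hC : orderOf hC = 8 :=
  order_of_code hC genC rfl 8 (by norm_num) (by decide +kernel) (by decide +kernel) (by decide +kernel) (by decide +kernel)

theorem order_h5 : orderOf (hA * hB) = 5 :=
  order_of_code (hA * hB) (mulL genA genB) (by rw [toM_mul]; rfl) 5 (by norm_num) (by decide +kernel)
    (by decide +kernel) (by decide +kernel) (by decide +kernel)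

theorem order_h10 : orderOf (hA * hB * hB) = 10 :=
  order_of_code (hA * hB * hB) (mulL (mulL genA genB) genB) (by rw [toM_mul, toM_mul]; rfl) 10 (by norm_num)
    (by decide +kernel) (by decide +kernel) (by decide +kernel) (by decide +kernel)

theorem order_h12 : orderOf (hA * hB * hC) = 12 :=
  order_of_code (hA * hB * hC) (mulL (mulL genA genB) genC) (by rw [toM_mul, toM_mul]; rfl) 12 (by norm_num)
    (by decide +kernel) (by decide +kernel) (by decide +kernel) (by decide +kernel)

open scoped Classical in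
/-- the odd function `δ₁ - δ_z` -/
noncomputable def delta : ↥W :=
  ⟨fun x => (if x = 1 then 1 else 0) - (if x = zH then 1 else 0), fun x => by
    have h1 : zH * x = 1 ↔ x = zH :=
      ⟨fun h => by rw [← one_mul x, ← zH_sq, mul_assoc, h, mul_one], fun h => by rw [h, zH_sq]⟩
    have h2 : zH * x = zH ↔ x = 1 := mul_eq_left
    simp [h1, h2]⟩

theorem delta_one : delta.1 1 = 1 := by
  classical
  have : (1 : ↥H) ≠ zH := fun h => by
    have := congrArg (fun u : ↥H => ((u : M4ˣ) : M4) 0 0) h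
    simp [zH_val] at this
    exact absurd this (by decide)
  simp [delta, this]

theorem delta_zero {h : ↥H} {n : ℕ} (hn : Odd n) (ho : h ^ n = 1) (h1 : h ≠ 1) : delta.1 h = 0 := by
  classical
  have : h ≠ zH := by
    rintro rfl
    obtain ⟨k, rfl⟩ := hn
    rw [pow_succ, pow_mul, sq, zH_sq, one_pow, one_mul] at ho
    exact h1 ho
  simp [delta, this, h1]

variable {k : ℕ}

noncomputable def mkE (v : Fin k → Fin 4 → ZMod 7) (f : ↥W) (h : ↥H) : Ext k := ⟨Multiplicative.ofAdd (v, f), h⟩

theorem sum_delta {h : ↥H} {n : ℕ} (hn : Odd n) (ho : orderOf h = n) :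
    ∑ j ∈ Finset.range n, delta.1 (1 * h ^ j) = 1 := by
  rw [Finset.sum_eq_single_of_mem 0 (Finset.mem_range.2 hn.pos), pow_zero, mul_one, delta_one]
  intro j hj hj0
  rw [one_mul]
  refine delta_zero hn ?_ (fun h1 => ?_)
  · rw [← pow_mul, mul_comm, pow_mul, ← ho, pow_orderOf_eq_one, one_pow]
  · have := Nat.le_of_dvd (Nat.pos_of_ne_zero hj0) (orderOf_dvd_of_pow_eq_one h1)
    rw [ho] at this
    exact absurd (Finset.mem_range.1 hj) (not_lt.2 this)

theorem delta_ne (h : ↥H) (n : ℕ) (hn : Odd n) (ho : orderOf h = n) : (mkE (k := k) 0 delta h) ^ n ≠ 1 := by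
  intro he
  have := congrArg (fun g => snd3 g 1) he
  rw [snd3_pow, snd3_one] at this
  exact one_ne_zero ((sum_delta hn ho).symm.trans this)

theorem ext_wit : ∀ d ∈ maxOrders, ∃ g : Ext (k + 1), orderOf g = d := by
  intro d hd
  have hin : ∀ h : ↥H, orderOf (SemidirectProduct.inr h : Ext (k + 1)) = orderOf h := fun h =>
    orderOf_injective _ SemidirectProduct.inr_injective h
  have hdvd : ∀ g : Ext (k + 1), orderOf g.right ∣ orderOf g := fun g =>
    orderOf_map_dvd (SemidirectProduct.rightHom : Ext (k + 1) →* ↥H) g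
  rcases List.mem_cons.1 hd with rfl | hd
  · exact ⟨_, (hin hC).trans order_hC⟩
  rcases List.mem_cons.1 hd with rfl | hd
  · refine ⟨mkE 0 delta hB, orderOf_eq_prime_pow (p := 3) (n := 1) (delta_ne hB 3 (by decide) order_hB) ?_⟩
    rw [show (3 : ℕ) ^ (1 + 1) = 3 * 3 from rfl, pow_mul]
    refine kills _ ?_ fun i => ?_
    · rw [right_pow]
      show hB ^ 3 = 1
      rw [← order_hB, pow_orderOf_eq_one]
    · rw [fst7_pow]
      show _ *ᵥ (0 : Fin 4 → ZMod 7) = 0
      rw [Matrix.mulVec_zero]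
  rcases List.mem_cons.1 hd with rfl | hd
  · exact ⟨_, (hin _).trans order_h10⟩
  rcases List.mem_cons.1 hd with rfl | hd
  · exact ⟨_, (hin _).trans order_h12⟩
  rcases List.mem_cons.1 hd with rfl | hd
  · set g : Ext (k + 1) := mkE 0 delta (hA * hB) with hg
    have h5 : 5 ∣ orderOf g := by
      have := hdvd g
      rwa [show g.right = hA * hB from rfl, order_h5] at this
    have h15 : g ^ 15 = 1 := by
      rw [show (15 : ℕ) = 5 * 3 from rfl, pow_mul]
      refine kills _ ?_ fun i => ?_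
      · rw [right_pow]
        show (hA * hB) ^ 5 = 1
        rw [← order_h5, pow_orderOf_eq_one]
      · rw [fst7_pow]
        show _ *ᵥ (0 : Fin 4 → ZMod 7) = 0
        rw [Matrix.mulVec_zero]
    obtain ⟨c, hc⟩ := h5
    have hc3 : c ∣ 3 := by
      have := orderOf_dvd_of_pow_eq_one h15
      rw [hc] at this
      exact (Nat.mul_dvd_mul_iff_left (by norm_num : 0 < 5)).1 this
    refine ⟨g, ?_⟩
    rcases (Nat.dvd_prime (by norm_num)).1 hc3 with rfl | rfl
    · exact absurd (orderOf_dvd_iff_pow_eq_one.1 (hc ▸ dvd_rfl : orderOf g ∣ 5)) (delta_ne _ 5 (by decide) order_h5)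
    · exact hc
  rcases List.mem_singleton.1 hd with rfl
  set v : Fin (k + 1) → Fin 4 → ZMod 7 := fun _ => Pi.single 0 1 with hv
  set g : Ext (k + 1) := mkE v delta 1 with hg
  have e7 : fst7 (g ^ 3) 0 ≠ 0 := fun h => by
    rw [fst7_pow] at h
    have := congrFun h 0
    simp [hg, hv, mkE, fst7, Finset.sum_range_succ, Matrix.add_mulVec] at this
    exact absurd this (by decide)
  have e3 : snd3 (g ^ 7) 1 ≠ 0 := fun h => by
    rw [snd3_pow] at h
    simp [hg, mkE, snd3, delta_one] at h
    exact absurd h (by decide)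
  have h21 : g ^ 21 = 1 := by
    rw [show (21 : ℕ) = 7 * 3 from rfl, pow_mul]
    refine kills _ (by rw [right_pow]; exact one_pow 7) fun i => ?_
    rw [fst7_pow]
    simp only [show g.right = 1 from rfl, Subgroup.coe_one, Units.val_one, one_pow, Finset.sum_const, Finset.card_range]
    rw [show ((7 : ℕ) • (1 : M4)) = 0 by
      rw [nsmul_eq_mul, mul_one]
      exact CharP.cast_eq_zero M4 7, Matrix.zero_mulVec]
  refine ⟨g, (orderOf_eq_iff (by norm_num)).2 ⟨h21, fun m hm hm0 he => ?_⟩⟩
  have h1 := (orderOf_dvd_of_pow_eq_one he)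
  have h2 := (orderOf_dvd_of_pow_eq_one h21)
  have hne3 : ¬ orderOf g ∣ 3 := fun h => e7 (by rw [orderOf_dvd_iff_pow_eq_one.1 h, fst7_one])
  have hne7 : ¬ orderOf g ∣ 7 := fun h => e3 (by rw [orderOf_dvd_iff_pow_eq_one.1 h, snd3_one])
  have hall : orderOf g ∈ Nat.divisors 21 := Nat.mem_divisors.2 ⟨h2, by norm_num⟩
  rw [show Nat.divisors 21 = {1, 3, 7, 21} by decide] at hall
  simp only [Finset.mem_insert, Finset.mem_singleton] at hall
  rcases hall with e | e | e | e
  · exact hne3 (by rw [e]; norm_num)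
  · exact hne3 (by rw [e])
  · exact hne7 (by rw [e])
  · rw [e] at h1
    exact absurd (Nat.le_of_dvd hm0 h1) (not_le.2 hm)

theorem main (N : ℕ) : ∃ (G : Type) (_ : Group G) (_ : Fintype G), N < Fintype.card G ∧
    Set.range (orderOf : G → ℕ) = Set.range (orderOf : alternatingGroup (Fin 10) → ℕ) := by
  refine ⟨Ext (N + 1), inferInstance, Fintype.ofFinite _, ?_, ?_⟩
  · rw [← @Nat.card_eq_fintype_card _ (Fintype.ofFinite _)]
    refine lt_of_lt_of_le (Nat.lt_pow_self (by norm_num : 1 < 7)) (le_trans (Nat.pow_le_pow_right (by norm_num)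
      (Nat.le_succ N)) (le_of_eq_of_le ?_ (Nat.card_le_card_of_injective
        (fun v : Fin (N + 1) → ZMod 7 => mkE (k := N + 1) (fun i => Pi.single 0 (v i)) 0 1) ?_)))
    · simp
    · intro v w h
      funext i
      have := congrArg (fun g => fst7 g i 0) h
      simpa [mkE, fst7] using this
  · rw [range_orderOf maxOrders ext_pow ext_wit (by decide), alt10_spectrum]

end Cfsg.Lib.SpecA10
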