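import Cfsg.Agent.SpecA10.Table

/-!
Arbitrarily large groups `(V₇ × V₃) ⋊ 2.S₅` with the element orders of `A₁₀` (Staroletov).
-/

set_option autoImplicit false

namespace Cfsg.Lib.SpecA10

abbrev M4 := Matrix (Fin 4) (Fin 4) (ZMod 7)

def toM (l : List ℕ) : M4 := Matrix.of fun i j => ((l.getD (4 * i.val + j.val) 0 : ℕ) : ZMod 7)

def mulL (a b : List ℕ) : List ℕ :=
  (List.range 16).map fun n =>
    (a.getD (4 * (n / 4)) 0 * b.getD (n % 4) 0 + a.getD (4 * (n / 4) + 1) 0 * b.getD (4 + n % 4) 0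
      + a.getD (4 * (n / 4) + 2) 0 * b.getD (8 + n % 4) 0 + a.getD (4 * (n / 4) + 3) 0 * b.getD (12 + n % 4) 0) % 7

def addL (a b : List ℕ) : List ℕ := (List.range 16).map fun n => (a.getD n 0 + b.getD n 0) % 7

def oneL : List ℕ := [1,0,0,0,0,1,0,0,0,0,1,0,0,0,0,1]
def negL : List ℕ := [6,0,0,0,0,6,0,0,0,0,6,0,0,0,0,6]
def zeroL : List ℕ := [0,0,0,0,0,0,0,0,0,0,0,0,0,0,0,0]

def powL (a : List ℕ) : ℕ → List ℕ
  | 0 => oneL
  | n + 1 => mulL (powL a n) a

theorem toM_mul (a b : List ℕ) : toM (mulL a b) = toM a * toM b := by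
  ext i j
  fin_cases i <;> fin_cases j <;>
    simp [toM, mulL, Matrix.mul_apply, Fin.sum_univ_four]

theorem toM_add (a b : List ℕ) : toM (addL a b) = toM a + toM b := by
  ext i j
  fin_cases i <;> fin_cases j <;> simp [toM, addL]

theorem toM_one : toM oneL = 1 := by
  ext i j
  fin_cases i <;> fin_cases j <;> simp [toM, oneL]

theorem toM_neg : toM negL = -1 := by
  ext i j
  fin_cases i <;> fin_cases j <;> simp [toM, negL] <;> rfl

theorem toM_zero : toM zeroL = 0 := by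
  ext i j
  fin_cases i <;> fin_cases j <;> simp [toM, zeroL]

theorem toM_pow (a : List ℕ) : ∀ n, toM (powL a n) = toM a ^ n
  | 0 => by rw [powL, toM_one, pow_zero]
  | n + 1 => by rw [powL, toM_mul, toM_pow a n, pow_succ]

/-- what every element of `2.S₅` satisfies -/
def Good (l : List ℕ) : Prop :=
  l = oneL ∨ addL (addL oneL l) (mulL l l) = zeroL ∨
    addL (addL (addL (addL oneL l) (powL l 2)) (powL l 3)) (powL l 4) = zeroL ∨
    ∃ j ∈ [1, 2, 3, 4, 5, 6], powL l j = negL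

instance (l : List ℕ) : Decidable (Good l) := inferInstanceAs (Decidable (_ ∨ _))

theorem all_good : ∀ l ∈ elems, Good l := by decide +kernel

theorem closed : ∀ l ∈ elems, mulL l genA ∈ elems ∧ mulL l genB ∈ elems ∧ mulL l genC ∈ elems := by decide +kernel

theorem one_mem_elems : oneL ∈ elems := by decide +kernel

noncomputable def uA : M4ˣ := Units.ofPowEqOne (toM genA) 4
  (by rw [← toM_pow, show powL genA 4 = oneL by decide +kernel, toM_one]) (by norm_num)

noncomputable def uB : M4ˣ := Units.ofPowEqOne (toM genB) 3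
  (by rw [← toM_pow, show powL genB 3 = oneL by decide +kernel, toM_one]) (by norm_num)

noncomputable def uC : M4ˣ := Units.ofPowEqOne (toM genC) 120
  (by rw [← toM_pow, show powL genC 120 = oneL by decide +kernel, toM_one]) (by norm_num)

theorem uA_val : ((uA : M4ˣ) : M4) = toM genA := rfl
theorem uB_val : ((uB : M4ˣ) : M4) = toM genB := rfl
theorem uC_val : ((uC : M4ˣ) : M4) = toM genC := rfl

def InL (u : M4) : Prop := ∃ l ∈ elems, toM l = u

def stab : Submonoid M4ˣ where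
  carrier := {u | ∀ x : M4, InL x → InL (x * (u : M4))}
  one_mem' := fun x hx => by simpa using hx
  mul_mem' := fun {a b} ha hb x hx => by simpa [mul_assoc] using hb _ (ha x hx)

noncomputable def H : Subgroup M4ˣ := Subgroup.closure {uA, uB, uC}

theorem mem_H {u : M4ˣ} (hu : u ∈ H) : InL (u : M4) := by
  have hle : Submonoid.closure ({uA, uB, uC} : Set M4ˣ) ≤ stab := by
    rw [Submonoid.closure_le]
    rintro v hv x ⟨l, hl, rfl⟩
    obtain ⟨c1, c2, c3⟩ := closed l hl
    rcases hv with rfl | rfl | rfl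
    · exact ⟨_, c1, by rw [toM_mul, uA_val]⟩
    · exact ⟨_, c2, by rw [toM_mul, uB_val]⟩
    · exact ⟨_, c3, by rw [toM_mul, uC_val]⟩
  have h : u ∈ stab := by
    refine hle ?_
    rw [← Subgroup.closure_toSubmonoid_of_finite]
    exact hu
  simpa using h 1 ⟨oneL, one_mem_elems, toM_one⟩

theorem good_cases (h : ↥H) :
    h = 1 ∨ (1 + ((h : M4ˣ) : M4) + ((h : M4ˣ) : M4) ^ 2 = 0) ∨
      (1 + ((h : M4ˣ) : M4) + ((h : M4ˣ) : M4) ^ 2 + ((h : M4ˣ) : M4) ^ 3 + ((h : M4ˣ) : M4) ^ 4 = 0) ∨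
      ∃ j ∈ [1, 2, 3, 4, 5, 6], ((h : M4ˣ) : M4) ^ j = -1 := by
  obtain ⟨l, hl, he⟩ := mem_H h.2
  rcases all_good l hl with h1 | h1 | h1 | ⟨j, hj, h1⟩
  · exact Or.inl (Subtype.ext (Units.ext (by rw [← he, h1, toM_one]; rfl)))
  · refine Or.inr (Or.inl ?_)
    have := congrArg toM h1
    rw [toM_add, toM_add, toM_mul, toM_one, toM_zero, he] at this
    rw [sq]; exact this
  · refine Or.inr (Or.inr (Or.inl ?_))
    have := congrArg toM h1
    rwa [toM_add, toM_add, toM_add, toM_add, toM_pow, toM_pow, toM_pow, toM_one, toM_zero, he] at this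
  · exact Or.inr (Or.inr (Or.inr ⟨j, hj, by rw [← he, ← toM_pow, h1, toM_neg]⟩))

end Cfsg.Lib.SpecA10
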