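import Cfsg.Agent.SpecA10.Core
import Cfsg.Agent.SpecA10.Spectrum

/-!
The extensions `(V₇ × V₃) ⋊ 2.S₅`.
-/

set_option autoImplicit false

namespace Cfsg.Lib.SpecA10

open Matrix

noncomputable def zH : ↥H :=
  ⟨uA ^ 2, pow_mem (Subgroup.subset_closure (by simp)) _⟩

theorem zH_val : ((zH : M4ˣ) : M4) = -1 := by
  show ((uA ^ 2 : M4ˣ) : M4) = -1
  rw [Units.val_pow_eq_pow_val, uA_val, ← toM_pow, show powL genA 2 = negL by decide +kernel, toM_neg]

theorem eq_zH {h : ↥H} (hh : ((h : M4ˣ) : M4) = -1) : h = zH :=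
  Subtype.ext (Units.ext (hh.trans zH_val.symm))

theorem zH_comm (h : ↥H) : zH * h = h * zH :=
  Subtype.ext (Units.ext (by simp [zH_val]))

theorem zH_sq : zH * zH = 1 := Subtype.ext (Units.ext (by simp [zH_val]))

/-- odd functions -/
noncomputable def W : AddSubgroup (↥H → ZMod 3) where
  carrier := {f | ∀ x, f (zH * x) = -f x}
  zero_mem' := fun x => by simp
  add_mem' := fun {f g} hf hg x => by simp [hf x, hg x, add_comm]
  neg_mem' := fun {f} hf x => by simp [hf x]

abbrev Ab (k : ℕ) : Type := (Fin k → Fin 4 → ZMod 7) × ↥W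

noncomputable def act (k : ℕ) : ↥H →* MulAut (Multiplicative (Ab k)) where
  toFun h := AddEquiv.toMultiplicative
    { toFun := fun a => (fun i => ((h : M4ˣ) : M4) *ᵥ a.1 i,
        ⟨fun x => a.2.1 (x * h), fun x => by show a.2.1 _ = -a.2.1 _; rw [mul_assoc]; exact a.2.2 _⟩)
      invFun := fun a => (fun i => (((h⁻¹ : ↥H) : M4ˣ) : M4) *ᵥ a.1 i,
        ⟨fun x => a.2.1 (x * h⁻¹), fun x => by show a.2.1 _ = -a.2.1 _; rw [mul_assoc]; exact a.2.2 _⟩)
      left_inv := fun a => by
        refine Prod.ext (funext fun i => ?_) (Subtype.ext (funext fun x => ?_))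
        · simp [Matrix.mulVec_mulVec]
        · simp
      right_inv := fun a => by
        refine Prod.ext (funext fun i => ?_) (Subtype.ext (funext fun x => ?_))
        · simp [Matrix.mulVec_mulVec]
        · simp
      map_add' := fun a b => by
        refine Prod.ext (funext fun i => ?_) (Subtype.ext (funext fun x => ?_))
        · simp [Matrix.mulVec_add]
        · simp }
  map_one' := by
    refine MulEquiv.ext fun a => ?_
    refine Prod.ext (funext fun i => ?_) (Subtype.ext (funext fun x => ?_))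
    · show ((1 : M4)) *ᵥ (Multiplicative.toAdd a).1 i = _
      simp
      rfl
    · show (Multiplicative.toAdd a).2.1 (x * 1) = _
      simp
      rfl
  map_mul' g h := by
    refine MulEquiv.ext fun a => ?_
    refine Prod.ext (funext fun i => ?_) (Subtype.ext (funext fun x => ?_))
    · show ((((g * h : ↥H) : M4ˣ) : M4)) *ᵥ (Multiplicative.toAdd a).1 i =
        ((g : M4ˣ) : M4) *ᵥ (((h : M4ˣ) : M4) *ᵥ (Multiplicative.toAdd a).1 i)
      simp [Matrix.mulVec_mulVec]
    · show (Multiplicative.toAdd a).2.1 (x * (g * h)) = (Multiplicative.toAdd a).2.1 (x * g * h)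
      rw [mul_assoc]

abbrev Ext (k : ℕ) : Type := Multiplicative (Ab k) ⋊[act k] ↥H

instance (k : ℕ) : Finite (Ext k) := Finite.of_equiv _ SemidirectProduct.equivProd.symm

variable {k : ℕ}

noncomputable def fst7 (g : Ext k) : Fin k → Fin 4 → ZMod 7 := (Multiplicative.toAdd g.left).1

noncomputable def snd3 (g : Ext k) : ↥H → ZMod 3 := (Multiplicative.toAdd g.left).2.1

theorem fst7_mul (a b : Ext k) (i : Fin k) :
    fst7 (a * b) i = fst7 a i + ((a.right : M4ˣ) : M4) *ᵥ fst7 b i := rfl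

theorem snd3_mul (a b : Ext k) (x : ↥H) : snd3 (a * b) x = snd3 a x + snd3 b (x * a.right) := rfl

theorem fst7_one (i : Fin k) : fst7 (1 : Ext k) i = 0 := rfl

theorem snd3_one (x : ↥H) : snd3 (1 : Ext k) x = 0 := rfl

theorem ext_iff' {a b : Ext k} :
    a = b ↔ a.right = b.right ∧ (∀ i, fst7 a i = fst7 b i) ∧ ∀ x, snd3 a x = snd3 b x := by
  refine ⟨fun h => by subst h; simp, fun ⟨h1, h2, h3⟩ => SemidirectProduct.ext ?_ h1⟩
  exact Multiplicative.toAdd.injective (Prod.ext (funext h2) (Subtype.ext (funext h3)))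

theorem right_pow (g : Ext k) (n : ℕ) : (g ^ n).right = g.right ^ n :=
  map_pow (SemidirectProduct.rightHom : Ext k →* ↥H) g n

theorem fst7_pow (g : Ext k) (i : Fin k) : ∀ n : ℕ,
    fst7 (g ^ n) i = (∑ j ∈ Finset.range n, ((g.right : M4ˣ) : M4) ^ j) *ᵥ fst7 g i
  | 0 => by simp [fst7_one]
  | n + 1 => by
      rw [pow_succ, fst7_mul, fst7_pow g i n, right_pow, Finset.sum_range_succ, Matrix.add_mulVec]
      simp

theorem snd3_pow (g : Ext k) (x : ↥H) : ∀ n : ℕ,
    snd3 (g ^ n) x = ∑ j ∈ Finset.range n, snd3 g (x * g.right ^ j)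
  | 0 => by simp [snd3_one]
  | n + 1 => by
      rw [pow_succ, snd3_mul, snd3_pow g x n, right_pow, Finset.sum_range_succ]

theorem kills (g : Ext k) (hr : g.right = 1) (h7 : ∀ i, fst7 g i = 0) : g ^ 3 = 1 := by
  refine ext_iff'.2 ⟨by rw [right_pow, hr]; simp, fun i => ?_, fun x => ?_⟩
  · simp [fst7_pow, h7, fst7_one]
  · rw [snd3_pow, snd3_one, hr]
    simp only [one_pow, mul_one, Finset.sum_const, Finset.card_range, nsmul_eq_mul]
    rw [show ((3 : ℕ) : ZMod 3) = 0 from ZMod.natCast_self 3, zero_mul]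

theorem sum_geom_one {h : ↥H} {n : ℕ} (hs : ∑ j ∈ Finset.range n, ((h : M4ˣ) : M4) ^ j = 0) : h ^ n = 1 := by
  refine Subtype.ext (Units.ext ?_)
  rw [SubmonoidClass.coe_pow, Units.val_pow_eq_pow_val]
  have := geom_sum_mul ((h : M4ˣ) : M4) n
  rw [hs, zero_mul] at this
  exact (sub_eq_zero.1 this.symm).trans rfl

theorem ext_pow (g : Ext k) : ∃ d ∈ maxOrders, g ^ d = 1 := by
  rcases good_cases g.right with h | h | h | ⟨j, hj, h⟩
  · refine ⟨21, by decide, ?_⟩
    rw [show (21 : ℕ) = 7 * 3 from rfl, pow_mul]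
    refine kills _ (by rw [right_pow, h, one_pow]) fun i => ?_
    rw [fst7_pow, h]
    simp only [Subgroup.coe_one, Units.val_one, one_pow, Finset.sum_const, Finset.card_range]
    rw [show ((7 : ℕ) • (1 : M4)) = 0 by
      rw [nsmul_eq_mul, mul_one]
      exact CharP.cast_eq_zero M4 7, Matrix.zero_mulVec]
  · refine ⟨9, by decide, ?_⟩
    have hs : ∑ j ∈ Finset.range 3, ((g.right : M4ˣ) : M4) ^ j = 0 := by
      simpa [Finset.sum_range_succ] using h
    rw [show (9 : ℕ) = 3 * 3 from rfl, pow_mul]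
    exact kills _ (by rw [right_pow, sum_geom_one hs]) fun i => by rw [fst7_pow, hs, Matrix.zero_mulVec]
  · refine ⟨15, by decide, ?_⟩
    have hs : ∑ j ∈ Finset.range 5, ((g.right : M4ˣ) : M4) ^ j = 0 := by
      simpa [Finset.sum_range_succ] using h
    rw [show (15 : ℕ) = 5 * 3 from rfl, pow_mul]
    exact kills _ (by rw [right_pow, sum_geom_one hs]) fun i => by rw [fst7_pow, hs, Matrix.zero_mulVec]
  · have h2 : g ^ (j * 2) = 1 := by
      have hz : (g ^ j).right = zH := by
        rw [right_pow]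
        exact eq_zH (by rw [SubmonoidClass.coe_pow, Units.val_pow_eq_pow_val]; exact h)
      rw [pow_mul, sq]
      refine ext_iff'.2 ⟨?_, fun i => ?_, fun x => ?_⟩
      · show (g ^ j).right * (g ^ j).right = 1
        rw [hz, zH_sq]
      · rw [fst7_mul, hz, zH_val, Matrix.neg_mulVec, Matrix.one_mulVec, add_neg_cancel, fst7_one]
      · rw [snd3_mul, hz, ← zH_comm]
        show _ + (Multiplicative.toAdd (g ^ j).left).2.1 (zH * x) = _
        rw [(Multiplicative.toAdd (g ^ j).left).2.2 x]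
        exact add_neg_cancel _
    have hdiv : ∃ d ∈ maxOrders, j * 2 ∣ d :=
      (by decide : ∀ i ∈ [1, 2, 3, 4, 5, 6], ∃ d ∈ maxOrders, i * 2 ∣ d) j hj
    obtain ⟨d, hd, e, rfl⟩ := hdiv
    exact ⟨_, hd, by rw [pow_mul, h2, one_pow]⟩

end Cfsg.Lib.SpecA10
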